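import Groth.Agent.L07.SyntConormal

/-! # A projection on the relations of a syntomic algebra -/

namespace Groth.L14.SyntLift

set_option linter.style.haveILetI false
set_option maxSynthPendingDepth 3

universe u

/-- The relations of a syntomic algebra admit a matrix which is a projection onto the conormal module. -/
theorem exists_conormal_matrix {R A₀ : Type u} [CommRing R] [CommRing A₀] [Algebra R A₀]
    (hs : Synt.IsSyntomic R A₀) {n m : ℕ} (π : MvPolynomial (Fin n) R →ₐ[R] A₀) (hπ : Function.Surjective π)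
    (f : Fin m → MvPolynomial (Fin n) R) (hf : RingHom.ker π = Ideal.span (Set.range f)) :
    ∃ e : Matrix (Fin m) (Fin m) (MvPolynomial (Fin n) R),
      (∀ s, f s - ∑ t, e s t * f t ∈ RingHom.ker π ^ 2) ∧
      ∀ a : Fin m → MvPolynomial (Fin n) R, ∑ s, a s * f s ∈ RingHom.ker π ^ 2 →
        ∀ u, ∑ s, a s * e s u ∈ RingHom.ker π := by
  classical
  let J := RingHom.ker π
  let S := MvPolynomial (Fin n) R ⧸ J
  let A' := Localization.Away (1 : S)
  have hbij : Function.Bijective (algebraMap S A') :=
    (IsLocalization.atUnits S (Submonoid.powers (1 : S)) (S := A') (by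
      rintro x ⟨k, rfl⟩
      simp)).bijective
  let eA : A₀ ≃ₐ[R] A' := (Ideal.quotientKerAlgEquivOfSurjective hπ).symm.trans
    (AlgEquiv.ofBijective (IsScalarTower.toAlgHom R S A') hbij)
  obtain ⟨-, hproj⟩ := Groth.L07.SyntConormal.finite_projective_cotangent J
    ⟨Finset.univ.image f, by
      rw [Finset.coe_image, Finset.coe_univ, Set.image_univ]
      exact hf.symm⟩ (1 : S) (Groth.L07.SyntAlg.isSyntomic_of_algEquiv eA hs)
  let M' := LocalizedModule (Submonoid.powers (1 : S)) J.Cotangent
  let mk := LocalizedModule.mkLinearMap (Submonoid.powers (1 : S)) J.Cotangent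
  have hmk : Function.Bijective mk := by
    refine ⟨fun a b h => ?_, fun z => ?_⟩
    · obtain ⟨⟨_, k, rfl⟩, hk⟩ := (IsLocalizedModule.eq_iff_exists (Submonoid.powers (1 : S)) mk).mp h
      simpa [Submonoid.smul_def] using hk
    · obtain ⟨⟨a, ⟨_, k, rfl⟩⟩, ha⟩ := IsLocalizedModule.surj (Submonoid.powers (1 : S)) mk z
      exact ⟨a, by simpa [Submonoid.smul_def] using ha.symm⟩
  have hfJ : ∀ t, f t ∈ J := fun t => hf.ge (Ideal.subset_span ⟨t, rfl⟩)
  let g : Fin m → M' := fun t => mk (J.toCotangent ⟨f t, hfJ t⟩)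
  let p := Fintype.linearCombination A' g
  let c : MvPolynomial (Fin n) R → A' := fun a => algebraMap S A' (Ideal.Quotient.mk J a)
  have hc : Function.Surjective c := hbij.2.comp Ideal.Quotient.mk_surjective
  have hcsmul : ∀ (a : MvPolynomial (Fin n) R) (t : Fin m),
      c a • g t = mk (J.toCotangent (a • ⟨f t, hfJ t⟩)) := fun a t => by
    show algebraMap S A' (Ideal.Quotient.mk J a) • g t = _
    rw [algebraMap_smul, map_smul, ← map_smul mk]
    rfl
  have hsum : ∀ a : Fin m → MvPolynomial (Fin n) R,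
      ∑ t, c (a t) • g t = mk (J.toCotangent (∑ t, a t • ⟨f t, hfJ t⟩)) := fun a => by
    rw [map_sum, map_sum]
    exact Finset.sum_congr rfl fun t _ => hcsmul _ _
  have hcoe : ∀ a : Fin m → MvPolynomial (Fin n) R,
      ((∑ t, a t • (⟨f t, hfJ t⟩ : J) : J) : MvPolynomial (Fin n) R) = ∑ t, a t * f t := fun a => by
    rw [AddSubmonoidClass.coe_finsetSum]
    rfl
  have hp : Function.Surjective p := by
    intro z
    obtain ⟨z, rfl⟩ := hmk.2 z
    obtain ⟨⟨x, hx⟩, rfl⟩ := J.toCotangent_surjective z
    obtain ⟨a, ha⟩ := Ideal.mem_span_range_iff_exists_fun.mp (hf.le hx)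
    refine ⟨fun t => c (a t), ?_⟩
    rw [Fintype.linearCombination_apply, hsum]
    congr 2
    exact Subtype.ext ((hcoe a).trans ha)
  obtain ⟨σ, hσ⟩ := Module.projective_lifting_property p LinearMap.id hp
  choose e he using fun s t => hc (σ (g s) t)
  refine ⟨Matrix.of e, fun s => ?_, fun a ha u => ?_⟩
  · have h1 : ∑ t, c (e s t) • g t = g s := by
      have := LinearMap.congr_fun hσ (g s)
      rw [LinearMap.comp_apply, Fintype.linearCombination_apply, LinearMap.id_apply] at this
      simpa only [he] using this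
    rw [hsum] at h1
    have h2 := (Ideal.toCotangent_eq J).mp (hmk.1 h1)
    rw [hcoe] at h2
    simpa [Matrix.of_apply] using neg_mem h2
  · have h1 : ∑ s, c (a s) • g s = 0 := by
      rw [hsum, (Ideal.toCotangent_eq_zero J _).mpr (by rw [hcoe]; exact ha), map_zero]
    have h2 := congrFun (congrArg σ h1) u
    rw [map_sum, map_zero, Finset.sum_apply, Pi.zero_apply] at h2
    simp only [map_smul, Pi.smul_apply, smul_eq_mul, ← he] at h2
    have h3 : c (∑ s, a s * e s u) = 0 := by
      simp only [c, map_sum, map_mul]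
      exact h2
    exact Ideal.Quotient.eq_zero_iff_mem.mp (hbij.1 (h3.trans (map_zero _).symm))

end Groth.L14.SyntLift
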