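import Groth.Agent.L07.CIField

/-! # A dimension bound for domains generated by few elements -/

namespace Groth.L14.SyntLift

open MvPolynomial

set_option linter.style.haveILetI false

universe u

/-- A domain generated over a field by `ψ(x)` and elements `z` which become combinations of `c`
elements after inverting `ψ g` has dimension at most `n`, if the kernel of `ψ` has height at least `c`. -/
theorem dim_le_of_generated {K L : Type u} [Field K] [CommRing L] [IsDomain L] [Algebra K L] {n m c : ℕ}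
    (ψ : MvPolynomial (Fin n) K →ₐ[K] L) (z : Fin m → L)
    (hgen : Algebra.adjoin K (Set.range (fun i => ψ (X i)) ∪ Set.range z) = ⊤)
    (g : MvPolynomial (Fin n) K) (hg : ψ g ≠ 0) (y : Fin c → L)
    (hy : ∀ s, ∃ α : Fin c → MvPolynomial (Fin n) K, ψ g * z s = ∑ i, ψ (α i) * y i)
    (hht : (c : ℕ∞) ≤ (RingHom.ker ψ).height) :
    ringKrullDim L ≤ (n : WithBot ℕ∞) := by
  classical
  haveI hft : Algebra.FiniteType K L := ⟨⟨(Finset.univ.image fun i => ψ (X i)) ∪ Finset.univ.image z, by
    simp only [Finset.coe_union, Finset.coe_image, Finset.coe_univ, Set.image_univ]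
    exact hgen⟩⟩
  let q := RingHom.ker ψ
  haveI : q.IsPrime := RingHom.ker_isPrime ψ
  let Lx := MvPolynomial (Fin n) K ⧸ q
  obtain ⟨h, e, hh, he, hsum⟩ := Groth.L07.CIField.exists_height_add q
  have hce : c ≤ h := by
    rw [hh] at hht
    exact_mod_cast hht
  let gb : Lx := Ideal.Quotient.mk q g
  have hgb : gb ≠ 0 := fun h0 => hg (Ideal.Quotient.eq_zero_iff_mem.mp h0)
  let A := Localization.Away gb
  have hA : ringKrullDim A = (e : WithBot ℕ∞) := (Groth.L07.CIField.dim_away (k := K) Lx gb hgb).trans he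
  haveI : IsNoetherianRing A := IsLocalization.isNoetherianRing (Submonoid.powers gb) _ inferInstance
  let Lg := Localization.Away (ψ g)
  let ψ' : Lx →+* L := Ideal.Quotient.lift q ψ.toRingHom fun a ha => ha
  have hψ' : ψ' gb = ψ g := Ideal.Quotient.lift_mk _ _ _
  let ι : A →+* Lg := IsLocalization.Away.lift (g := (algebraMap L Lg).comp ψ') gb (by
    rw [RingHom.comp_apply, hψ']
    exact IsLocalization.Away.algebraMap_isUnit (ψ g))
  have hι : ∀ a : Lx, ι (algebraMap Lx A a) = algebraMap L Lg (ψ' a) := fun a =>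
    IsLocalization.Away.lift_eq _ _ a
  let Φ : MvPolynomial (Fin c) A →+* Lg := eval₂Hom ι fun i => algebraMap L Lg (y i)
  have hψΦ : ∀ p, algebraMap L Lg (ψ p) ∈ Φ.range := fun p =>
    ⟨C (algebraMap Lx A (Ideal.Quotient.mk q p)), by
      rw [eval₂Hom_C, hι]
      rfl⟩
  have hinv : ∃ u ∈ Φ.range, u * algebraMap L Lg (ψ g) = 1 := by
    obtain ⟨v, hv⟩ := (IsLocalization.Away.algebraMap_isUnit (S := A) gb).exists_left_inv
    refine ⟨ι v, ⟨C v, eval₂Hom_C _ _ _⟩, ?_⟩
    have := congrArg ι hv
    rw [map_mul, map_one, hι] at this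
    rwa [show ψ' gb = ψ g from hψ'] at this
  obtain ⟨u, hu, hu1⟩ := hinv
  have hL : ∀ x : L, algebraMap L Lg x ∈ Φ.range := by
    intro x
    have hx : x ∈ Algebra.adjoin K (Set.range (fun i => ψ (X i)) ∪ Set.range z) := hgen ▸ trivial
    induction hx using Algebra.adjoin_induction with
    | mem x hx =>
      rcases hx with ⟨i, rfl⟩ | ⟨s, rfl⟩
      · exact hψΦ _
      · obtain ⟨α, hα⟩ := hy s
        have : algebraMap L Lg (z s) = u * algebraMap L Lg (ψ g * z s) := by
          rw [map_mul, ← mul_assoc, hu1, one_mul]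
        rw [this, hα, map_sum]
        refine mul_mem hu (sum_mem fun i _ => ?_)
        rw [map_mul]
        exact mul_mem (hψΦ _) ⟨X i, eval₂Hom_X' _ _ _⟩
    | algebraMap r =>
      rw [← ψ.commutes r]
      exact hψΦ _
    | add a b _ _ ha hb => rw [map_add]; exact add_mem ha hb
    | mul a b _ _ ha hb => rw [map_mul]; exact mul_mem ha hb
  have hΦ : Function.Surjective Φ := by
    intro w
    obtain ⟨k, a, ha⟩ := IsLocalization.Away.surj (ψ g) w
    have : w = algebraMap L Lg a * u ^ k := by
      rw [← ha, mul_assoc, ← mul_pow, mul_comm (algebraMap L Lg (ψ g)) u, hu1, one_pow, mul_one]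
    rw [this]
    exact mul_mem (hL a) (pow_mem hu k)
  have h1 := ringKrullDim_le_of_surjective Φ hΦ
  rw [MvPolynomial.ringKrullDim_of_isNoetherianRing, hA, Nat.card_fin] at h1
  rw [← Groth.L07.CIField.dim_away (k := K) L (ψ g) hg]
  refine h1.trans ?_
  exact_mod_cast (show e + c ≤ n by omega)

end Groth.L14.SyntLift
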