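import Groth.Agent.L07.SyntBase

/-! # Complete intersection fibres along surjections -/

namespace Groth.L14.SyntLift

open TensorProduct PrimeSpectrum
open Groth.L07.CILocus Groth.L07.SyntAlg

set_option linter.style.haveILetI false
set_option maxSynthPendingDepth 3

universe u

/-- Complete intersection fibres along a surjective change of base. -/
theorem ciAt_base_surjective {R R' S : Type u} [CommRing R] [CommRing R'] [CommRing S] [Algebra R R']
    [Algebra R' S] [Algebra R S] [IsScalarTower R R' S] [Algebra.FiniteType R S]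
    (hσ : Function.Surjective (algebraMap R R')) (P : PrimeSpectrum S) : CIAt R P ↔ CIAt R' P := by
  haveI : Algebra.FiniteType R' S := Algebra.FiniteType.of_restrictScalars_finiteType R R' S
  set p' := comap (algebraMap R' S) P with hp'
  have hp : comap (algebraMap R S) P = comap (algebraMap R R') p' := by
    rw [hp', ← comap_comp_apply, ← IsScalarTower.algebraMap_eq]
  let p := comap (algebraMap R R') p'
  rw [ciAt_iff_at P p hp, ciAt_iff_at P p' rfl]
  let K := p.asIdeal.ResidueField
  let K' := p'.asIdeal.ResidueField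
  let mK : K →ₐ[R] K' := Ideal.ResidueField.mapₐ p.asIdeal p'.asIdeal (Algebra.ofId R R') rfl
  have hmK : Function.Bijective mK := by
    refine ⟨RingHom.injective _, fun z => ?_⟩
    obtain ⟨a, b, -, rfl⟩ := IsFractionRing.div_surjective (A := R' ⧸ p'.asIdeal) z
    obtain ⟨a, rfl⟩ := Ideal.Quotient.mk_surjective a
    obtain ⟨a, rfl⟩ := hσ a
    obtain ⟨b, rfl⟩ := Ideal.Quotient.mk_surjective b
    obtain ⟨b, rfl⟩ := hσ b
    refine ⟨algebraMap R K a / algebraMap R K b, ?_⟩
    rw [map_div₀, AlgHom.commutes, AlgHom.commutes, IsScalarTower.algebraMap_apply R R' K',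
      IsScalarTower.algebraMap_apply R R' K']
    rfl
  haveI : CompatibleSMul R R' K' S := ⟨fun r a b => by
    obtain ⟨r, rfl⟩ := hσ r
    rw [algebraMap_smul, algebraMap_smul, smul_tmul]⟩
  haveI : CompatibleSMul R' R K' S := ⟨fun r a b => by
    rw [← algebraMap_smul R' r a, ← algebraMap_smul R' r b, smul_tmul]⟩
  let E : p.asIdeal.Fiber S ≃+* p'.asIdeal.Fiber S :=
    (Algebra.TensorProduct.congr (AlgEquiv.ofBijective mK hmK) (AlgEquiv.refl (R := R) (A₁ := S))).toRingEquiv.trans
      (Algebra.TensorProduct.equivOfCompatibleSMul R' R R K' S).toRingEquiv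
  haveI : IsNoetherianRing (p.asIdeal.Fiber S) := Algebra.FiniteType.isNoetherianRing K _
  haveI : IsNoetherianRing (p'.asIdeal.Fiber S) := Algebra.FiniteType.isNoetherianRing K' _
  refine isCI_localization_equiv E _ _ (congrArg PrimeSpectrum.asIdeal (?_ :
    preimageEquivFiber R S p ⟨P, hp⟩ = comap E.toRingHom (preimageEquivFiber R' S p' ⟨P, rfl⟩)))
  refine (preimageEquivFiber R S p).symm.injective (Subtype.ext ?_)
  rw [Equiv.symm_apply_apply]
  have hb : comap Algebra.TensorProduct.includeRight.toRingHom (preimageEquivFiber R' S p' ⟨P, rfl⟩) = P :=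
    congrArg Subtype.val ((preimageEquivFiber R' S p').symm_apply_apply ⟨P, rfl⟩)
  show P = comap Algebra.TensorProduct.includeRight.toRingHom (comap E.toRingHom _)
  conv_lhs => rw [← hb]
  rw [← comap_comp_apply]
  refine congrArg (fun φ : S →+* p'.asIdeal.Fiber S => comap φ _) (RingHom.ext fun a => ?_)
  simp [E]
  rfl

/-- Complete intersection fibres over the vanishing locus of an ideal of the base do not see
the reduction modulo that ideal. -/
theorem ciAt_quotient {R C A₀ : Type u} [CommRing R] (I : Ideal R) [CommRing C] [CommRing A₀]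
    [Algebra R C] [Algebra R A₀] [Algebra.FiniteType R C] (θ : C →ₐ[R] A₀) (hθ : Function.Surjective θ)
    (hker : RingHom.ker θ ≤ I.map (algebraMap R C)) (P : PrimeSpectrum A₀)
    (hI : I ≤ P.asIdeal.comap (algebraMap R A₀)) :
    CIAt R (comap θ.toRingHom P) ↔ CIAt R P := by
  haveI : Algebra.FiniteType R A₀ := Algebra.FiniteType.of_surjective θ hθ
  set p := comap (algebraMap R A₀) P
  have hp : comap (algebraMap R C) (comap θ.toRingHom P) = p := by
    rw [← comap_comp_apply]
    exact congrArg (fun φ : R →+* A₀ => comap φ P) (RingHom.ext θ.commutes)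
  rw [ciAt_iff_at _ p hp, ciAt_iff_at P p rfl]
  let K := p.asIdeal.ResidueField
  haveI : IsNoetherianRing (p.asIdeal.Fiber C) := Algebra.FiniteType.isNoetherianRing K _
  haveI : IsNoetherianRing (p.asIdeal.Fiber A₀) := Algebra.FiniteType.isNoetherianRing K _
  let m : p.asIdeal.Fiber C →ₐ[R] p.asIdeal.Fiber A₀ :=
    Algebra.TensorProduct.map (AlgHom.id R K) θ
  let j : C →ₐ[R] p.asIdeal.Fiber C := Algebra.TensorProduct.includeRight
  have hj : ∀ x ∈ I.map (algebraMap R C), j x = 0 := by
    intro x hx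
    have : I.map (algebraMap R C) ≤ RingHom.ker j := by
      rw [Ideal.map_le_iff_le_comap]
      intro i hi
      rw [Ideal.mem_comap, RingHom.mem_ker, AlgHom.commutes, IsScalarTower.algebraMap_apply R K,
        (Ideal.algebraMap_residueField_eq_zero (I := p.asIdeal)).mpr (hI hi), map_zero]
    exact this hx
  let g : A₀ →ₐ[R] p.asIdeal.Fiber C :=
    (Ideal.Quotient.liftₐ (RingHom.ker θ) j fun x hx => hj x (hker hx)).comp
      (Ideal.quotientKerAlgEquivOfSurjective hθ).symm.toAlgHom
  have hg : ∀ c, g (θ c) = j c := fun c => by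
    have e1 : (Ideal.quotientKerAlgEquivOfSurjective hθ).symm (θ c) = Ideal.Quotient.mk _ c :=
      (AlgEquiv.symm_apply_eq _).mpr rfl
    simp only [g, AlgHom.comp_apply, AlgEquiv.coe_toAlgHom]
    rw [e1]
    rfl
  let n : p.asIdeal.Fiber A₀ →ₐ[R] p.asIdeal.Fiber C :=
    Algebra.TensorProduct.lift Algebra.TensorProduct.includeLeft g fun _ _ => Commute.all _ _
  have h1 : n.comp m = AlgHom.id R _ := by
    refine Algebra.TensorProduct.ext' fun a c => ?_
    simp [n, m, hg, j, AlgHom.id_apply, Algebra.TensorProduct.tmul_mul_tmul]; rfl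
  have h2 : m.comp n = AlgHom.id R _ := by
    refine Algebra.TensorProduct.ext' fun a c => ?_
    obtain ⟨c, rfl⟩ := hθ c
    simp [n, m, hg, j, AlgHom.id_apply, Algebra.TensorProduct.tmul_mul_tmul]; rfl
  let E : p.asIdeal.Fiber C ≃ₐ[R] p.asIdeal.Fiber A₀ := AlgEquiv.ofAlgHom m n h2 h1
  refine isCI_localization_equiv E.toRingEquiv _ _ (congrArg PrimeSpectrum.asIdeal (?_ :
    preimageEquivFiber R C p ⟨comap θ.toRingHom P, hp⟩ =
      comap E.toRingEquiv.toRingHom (preimageEquivFiber R A₀ p ⟨P, rfl⟩)))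
  refine (preimageEquivFiber R C p).symm.injective (Subtype.ext ?_)
  rw [Equiv.symm_apply_apply]
  have hb : comap Algebra.TensorProduct.includeRight.toRingHom (preimageEquivFiber R A₀ p ⟨P, rfl⟩) = P :=
    congrArg Subtype.val ((preimageEquivFiber R A₀ p).symm_apply_apply ⟨P, rfl⟩)
  show comap θ.toRingHom P = comap Algebra.TensorProduct.includeRight.toRingHom
    (comap E.toRingEquiv.toRingHom _)
  conv_lhs => rw [← hb]
  rw [← comap_comp_apply, ← comap_comp_apply]
  refine congrArg (fun φ : C →+* p.asIdeal.Fiber A₀ => comap φ _) (RingHom.ext fun a => ?_)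
  simp [E, m]

/-- A prime of the fibre ring is determined by its contraction. -/
theorem eq_of_comap_θ {R : Type u} [CommRing R] {d : ℕ} (p : PrimeSpectrum R)
    (Q₁ Q₂ : Ideal (MvPolynomial (Fin d) p.asIdeal.ResidueField)) [Q₁.IsPrime] [Q₂.IsPrime]
    (h : Q₁.comap (θ p) = Q₂.comap (θ p)) : Q₁ = Q₂ := by
  suffices H : ∀ (Q Q' : Ideal (MvPolynomial (Fin d) p.asIdeal.ResidueField)) [Q'.IsPrime],
      Q.comap (θ p) = Q'.comap (θ p) → Q ≤ Q' from le_antisymm (H _ _ h) (H _ _ h.symm)
  intro Q Q' _ h x hx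
  obtain ⟨r, hr, y, hy⟩ := exists_lift p x
  have : y ∈ Q'.comap (θ p) := h ▸ (by rw [Ideal.mem_comap, hy]; exact Ideal.mul_mem_left _ _ hx)
  rw [Ideal.mem_comap, hy] at this
  exact (Ideal.IsPrime.mem_or_mem ‹_› this).resolve_left (C_ne hr Q')

end Groth.L14.SyntLift
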