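import Groth.Agent.L14.SyntLift.Dim
import Groth.Agent.L14.SyntLift.Fibre
import Groth.Agent.L14.SyntLift.Conormal

/-! # The fibre dimension of the conormal cone over a syntomic algebra -/

namespace Groth.L14.SyntLift

open MvPolynomial PrimeSpectrum
open Groth.L07.CILocus

set_option linter.style.haveILetI false
set_option maxSynthPendingDepth 3

universe u

theorem dim_le_of_conormal {R₀ A₀ : Type u} [CommRing R₀] [CommRing A₀] [Algebra R₀ A₀]
    (hs : Synt.IsSyntomic R₀ A₀) {n m : ℕ} (π : MvPolynomial (Fin n) R₀ →ₐ[R₀] A₀) (hπ : Function.Surjective π)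
    (f : Fin m → MvPolynomial (Fin n) R₀) (hf : RingHom.ker π = Ideal.span (Set.range f))
    (e : Matrix (Fin m) (Fin m) (MvPolynomial (Fin n) R₀))
    (he : ∀ a : Fin m → MvPolynomial (Fin n) R₀, ∑ s, a s * f s ∈ RingHom.ker π ^ 2 →
      ∀ u, ∑ s, a s * e s u ∈ RingHom.ker π)
    {K L : Type u} [Field K] [CommRing L] [IsDomain L] [Algebra K L] (ρ : R₀ →+* K)
    (hρ : ∀ x : K, ∃ a b, ρ b ≠ 0 ∧ x * ρ b = ρ a)
    (τ : A₀ →+* L) (hτ : ∀ r, τ (algebraMap R₀ A₀ r) = algebraMap K L (ρ r))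
    (z : Fin m → L) (hz : ∀ s, z s = ∑ t, τ (π (e s t)) * z t)
    (hgen : Algebra.adjoin K (Set.range (fun i => τ (π (X i))) ∪ Set.range z) = ⊤) :
    ringKrullDim L ≤ (n : WithBot ℕ∞) := by
  classical
  let Po := MvPolynomial (Fin n) R₀
  let J := RingHom.ker π
  let eA := Ideal.quotientKerAlgEquivOfSurjective hπ
  haveI := hs.2.1
  haveI : Algebra.FinitePresentation R₀ (Po ⧸ J) := Algebra.FinitePresentation.equiv eA.symm
  have hJ : J.FG := ⟨Finset.univ.image f, by
    rw [Finset.coe_image, Finset.coe_univ, Set.image_univ]; exact hf.symm⟩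
  obtain ⟨hflat, hCI⟩ := Groth.L07.SyntAlg.isSyntomic_iff.mp
    (Groth.L07.SyntAlg.isSyntomic_of_algEquiv eA.symm hs)
  let τ' : Po →+* L := τ.comp π.toRingHom
  let τq : Po ⧸ J →+* L := Ideal.Quotient.lift J τ' fun a ha => by
    show τ (π a) = 0
    rw [RingHom.mem_ker.mp ha, map_zero]
  haveI : (RingHom.ker τq).IsPrime := RingHom.ker_isPrime τq
  let P' : PrimeSpectrum (Po ⧸ J) := ⟨RingHom.ker τq, inferInstance⟩
  haveI : Module.Flat R₀ (Localization.AtPrime P'.asIdeal) := by
    haveI := hflat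
    exact Module.Flat.trans R₀ (Po ⧸ J) _
  let p := comap (algebraMap R₀ (Po ⧸ J)) P'
  have hτC : ∀ r : R₀, τ' (C r) = algebraMap K L (ρ r) := fun r => by
    show τ (π (C r)) = _
    rw [show π (C r) = algebraMap R₀ A₀ r from π.commutes r, hτ]
  have hp : ∀ r, r ∈ p.asIdeal ↔ ρ r = 0 := fun r => by
    show τ' (C r) = 0 ↔ _
    rw [hτC, map_eq_zero_iff _ (RingHom.injective (algebraMap K L))]
  let j : p.asIdeal.ResidueField →+* K := Ideal.ResidueField.lift p.asIdeal ρ
    (fun r hr => (hp r).mp hr) (fun r hr => isUnit_iff_ne_zero.mpr fun h => hr ((hp r).mpr h))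
  have hj : ∀ r, j (algebraMap R₀ _ r) = ρ r := fun r => Ideal.ResidueField.lift_algebraMap _ _ _ _ r
  have hjs : Function.Surjective j := fun x => by
    obtain ⟨a, b, hb, hab⟩ := hρ x
    refine ⟨algebraMap R₀ _ a / algebraMap R₀ _ b, ?_⟩
    rw [map_div₀, hj, hj, div_eq_iff hb, hab]
  letI : Algebra p.asIdeal.ResidueField L := ((algebraMap K L).comp j).toAlgebra
  let ψ : MvPolynomial (Fin n) p.asIdeal.ResidueField →ₐ[p.asIdeal.ResidueField] L :=
    aeval fun i => τ (π (X i))
  have hψθ : ∀ a : Po, ψ (θ p a) = τ' a := fun a => by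
    have : (ψ.toRingHom.comp (θ p)) = τ' := MvPolynomial.ringHom_ext (fun r => by
      rw [hτC]
      show ψ (θ p (C r)) = _
      rw [θ, map_C]
      refine (aeval_C _ _).trans ?_
      show algebraMap K L (j _) = _
      rw [hj]) (fun i => by
      show ψ (θ p (X i)) = τ (π (X i))
      rw [θ, map_X, aeval_X])
    exact RingHom.congr_fun this a
  obtain ⟨c, fr, hfrJ, hreg, hgen'⟩ := exists_generators J P' (hCI P')
  obtain ⟨g, hg, hgJ⟩ := Groth.L07.SyntAlg.exists_mul_mem J hJ P' fr hfrJ hgen'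
  haveI : (RingHom.ker ψ).IsPrime := RingHom.ker_isPrime ψ
  have hQ : polPrime J P' = RingHom.ker ψ := by
    refine eq_of_comap_θ p _ _ ?_
    rw [comap_polPrime]
    ext a
    show τ' a = 0 ↔ ψ (θ p a) = 0
    rw [hψθ]
  have hht : (c : ℕ∞) ≤ (RingHom.ker ψ).height := by
    rw [← hQ]
    refine Groth.L07.CIField.height_ge_of_regular (θ p ∘ fr) _ hreg _ ?_ le_rfl
    rw [Ideal.span_le]
    rintro _ ⟨i, rfl⟩
    exact map_le_polPrime J P' (Ideal.mem_map_of_mem _ (hfrJ i))
  have hβ : ∀ i, ∃ β : Fin m → Po, ∑ t, β t * f t = fr i := fun i =>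
    Ideal.mem_span_range_iff_exists_fun.mp (hf.le (hfrJ i))
  choose β hβ using hβ
  have hα : ∀ s, ∃ α : Fin c → Po, ∑ i, α i * fr i = g * f s := fun s =>
    Ideal.mem_span_range_iff_exists_fun.mp (hgJ _ (hf.ge (Ideal.subset_span ⟨s, rfl⟩)))
  choose α hα using hα
  have key : ∀ s u, τ' g * τ' (e s u) = ∑ i, τ' (α s i) * ∑ t, τ' (β i t) * τ' (e t u) := by
    intro s u
    have h0 : ∑ t, ((if t = s then g else 0) - ∑ i, α s i * β i t) * f t = 0 := by
      simp only [sub_mul, Finset.sum_sub_distrib, ite_mul, zero_mul, Finset.sum_ite_eq', Finset.mem_univ,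
        if_true, Finset.sum_mul]
      rw [Finset.sum_comm, ← hα s, sub_eq_zero]
      refine Finset.sum_congr rfl fun i _ => ?_
      rw [← hβ i, Finset.mul_sum]
      exact Finset.sum_congr rfl fun t _ => by ring
    have h1 : τ' (∑ t, ((if t = s then g else 0) - ∑ i, α s i * β i t) * e t u) = 0 := by
      show τ (π _) = 0
      rw [RingHom.mem_ker.mp (he _ (by rw [h0]; exact zero_mem _) u), map_zero]
    simp only [sub_mul, Finset.sum_sub_distrib, ite_mul, zero_mul, Finset.sum_ite_eq', Finset.mem_univ,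
        if_true, Finset.sum_mul, map_sub, map_mul, map_sum, sub_eq_zero] at h1
    rw [h1, Finset.sum_comm]
    refine Finset.sum_congr rfl fun i _ => ?_
    rw [Finset.mul_sum]
    exact Finset.sum_congr rfl fun t _ => by ring
  refine dim_le_of_generated ψ z ?_ (θ p g) ?_
    (fun i => ∑ u, (∑ t, τ' (β i t) * τ' (e t u)) * z u) (fun s => ⟨fun i => θ p (α s i), ?_⟩) hht
  · refine eq_top_iff.mpr fun x hx' => ?_
    clear hx'
    have hx : x ∈ Algebra.adjoin K (Set.range (fun i => τ (π (X i))) ∪ Set.range z) := hgen ▸ trivial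
    induction hx using Algebra.adjoin_induction with
    | mem x hx =>
      refine Algebra.subset_adjoin ?_
      rcases hx with ⟨i, rfl⟩ | hx
      · exact Or.inl ⟨i, aeval_X _ _⟩
      · exact Or.inr hx
    | algebraMap r =>
      obtain ⟨r, rfl⟩ := hjs r
      exact Subalgebra.algebraMap_mem _ r
    | add a b _ _ ha hb => exact add_mem ha hb
    | mul a b _ _ ha hb => exact mul_mem ha hb
  · rw [hψθ]
    exact fun h => hg h
  · simp only [hψθ]
    conv_lhs => rw [hz s, Finset.mul_sum]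
    calc ∑ u, τ' g * (τ (π (e s u)) * z u)
        = ∑ u, (∑ i, τ' (α s i) * ∑ t, τ' (β i t) * τ' (e t u)) * z u :=
          Finset.sum_congr rfl fun u _ => by rw [← key, mul_assoc]; rfl
      _ = _ := by
          simp only [Finset.sum_mul, Finset.mul_sum]
          rw [Finset.sum_comm]
          exact Finset.sum_congr rfl fun i _ => Finset.sum_congr rfl fun u _ =>
            Finset.sum_congr rfl fun t _ => by ring

end Groth.L14.SyntLift
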