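import Groth.Agent.L14.SyntLift.Fibre
import Groth.Agent.L07.SyntRel
import Mathlib.RingTheory.Smooth.StandardSmoothOfFree
import Mathlib.RingTheory.Smooth.StandardSmooth

/-! # Presentations and flatness of the auxiliary cone -/

namespace Groth.L14.SyntLift

open MvPolynomial PrimeSpectrum
open Groth.L07.CILocus

set_option linter.style.haveILetI false
set_option maxSynthPendingDepth 3

universe u

/-- A quotient by `m` equations of a polynomial ring in `m` variables over an étale algebra over
affine `n`-space has a presentation with `n` more variables than equations. -/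
theorem exists_presentation {R T : Type u} [CommRing R] {n m : ℕ} [CommRing T]
    [Algebra (MvPolynomial (Fin n) R) T] [Algebra.Etale (MvPolynomial (Fin n) R) T]
    [Algebra R T] [IsScalarTower R (MvPolynomial (Fin n) R) T]
    (r : Fin m → MvPolynomial (Fin m) T) :
    ∃ (N c : ℕ) (Φ : MvPolynomial (Fin N) R →ₐ[R] MvPolynomial (Fin m) T ⧸ Ideal.span (Set.range r))
      (F : Fin c → MvPolynomial (Fin N) R), N = c + n ∧ Function.Surjective Φ ∧
      RingHom.ker Φ = Ideal.span (Set.range F) := by
  classical
  obtain ⟨ι, σ, _, _, ⟨Q, hQ⟩⟩ := (Algebra.Etale.iff_isStandardSmoothOfRelativeDimension_zero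
    (R := MvPolynomial (Fin n) R) (S := T)).mp inferInstance |>.out
  let D := MvPolynomial (Fin m) T ⧸ Ideal.span (Set.range r)
  let Q2 : Algebra.Presentation (MvPolynomial (Fin n) R) D (Fin m ⊕ ι) (Fin m ⊕ σ) :=
    (Algebra.Presentation.naive (v := r)).comp Q.toPresentation
  haveI := Fintype.ofFinite ι
  haveI := Fintype.ofFinite σ
  have hcard : Nat.card ι = Nat.card σ := by
    have h1 : Nat.card ι - Nat.card σ = 0 := hQ
    have h2 := Nat.card_le_card_of_injective Q.map Q.map_inj
    omega
  let eN : Fin (Nat.card (Fin m ⊕ σ) + n) ≃ (Fin m ⊕ ι) ⊕ Fin n :=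
    (finCongr (by simp only [Nat.card_sum, Nat.card_fin, hcard])).trans (Finite.equivFin ((Fin m ⊕ ι) ⊕ Fin n)).symm
  let e : MvPolynomial (Fin (Nat.card (Fin m ⊕ σ) + n)) R ≃ₐ[R]
      MvPolynomial (Fin m ⊕ ι) (MvPolynomial (Fin n) R) :=
    (renameEquiv R eN).trans (sumAlgEquiv R (Fin m ⊕ ι) (Fin n))
  let π2 : MvPolynomial (Fin m ⊕ ι) (MvPolynomial (Fin n) R) →ₐ[MvPolynomial (Fin n) R] D := aeval Q2.val
  have hker : RingHom.ker π2 = Ideal.span (Set.range Q2.relation) := by
    rw [Q2.span_range_relation_eq_ker, Algebra.Generators.ker_eq_ker_aeval_val]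
  have hsur : Function.Surjective π2 := fun x => ⟨Q2.σ x, Q2.aeval_val_σ x⟩
  let fσ : Fin (Nat.card (Fin m ⊕ σ)) ≃ Fin m ⊕ σ := (Finite.equivFin _).symm
  refine ⟨_, Nat.card (Fin m ⊕ σ), (π2.restrictScalars R).comp e.toAlgHom,
    fun i => e.symm (Q2.relation (fσ i)), rfl, hsur.comp e.surjective, ?_⟩
  rw [show (fun i => e.symm (Q2.relation (fσ i))) = e.symm ∘ (Q2.relation ∘ fσ) from rfl, Set.range_comp,
    fσ.surjective.range_comp, ← Ideal.map_span e.symm, ← hker]
  refine Eq.trans ?_ (Ideal.map_symm e.toRingEquiv).symm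
  rfl

/-- Flatness at a point from a bound on the dimension of the fibre through it. -/
theorem flat_of_fibre_dim {R D : Type u} [CommRing R] [CommRing D] [Algebra R D] {N c n : ℕ} (hN : N = c + n)
    (Φ : MvPolynomial (Fin N) R →ₐ[R] D) (hΦ : Function.Surjective Φ) (F : Fin c → MvPolynomial (Fin N) R)
    (hker : RingHom.ker Φ = Ideal.span (Set.range F)) (Q : Ideal D) [Q.IsPrime]
    (H : ∀ (L : Type u) [CommRing L] [IsDomain L] [Algebra (Q.comap (algebraMap R D)).ResidueField L]
      (δ : D →+* L), (∀ r, δ (algebraMap R D r) =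
        algebraMap (Q.comap (algebraMap R D)).ResidueField L (algebraMap R _ r)) →
      Algebra.adjoin (Q.comap (algebraMap R D)).ResidueField (Set.range δ) = ⊤ →
      ringKrullDim L ≤ (n : WithBot ℕ∞)) :
    Module.Flat R (Localization.AtPrime Q) := by
  classical
  let I' := Ideal.span (Set.range F)
  let eΦ : (MvPolynomial (Fin N) R ⧸ I') ≃ₐ[R] D :=
    (Ideal.quotientEquivAlgOfEq R hker.symm).trans (Ideal.quotientKerAlgEquivOfSurjective hΦ)
  let P : PrimeSpectrum (MvPolynomial (Fin N) R ⧸ I') := comap eΦ.toRingEquiv.toRingHom ⟨Q, inferInstance⟩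
  let q' := Q.comap Φ.toRingHom
  have hq' : P.asIdeal.comap (Ideal.Quotient.mk I') = q' := by
    ext x
    rfl
  have hp : comap (algebraMap R (MvPolynomial (Fin N) R ⧸ I')) P = ⟨Q.comap (algebraMap R D), inferInstance⟩ := by
    ext r
    show eΦ (algebraMap R _ r) ∈ Q ↔ _
    rw [eΦ.commutes]
    rfl
  have hht : ∀ p : PrimeSpectrum R, p = ⟨Q.comap (algebraMap R D), inferInstance⟩ →
      ∀ (q : Ideal (MvPolynomial (Fin N) p.asIdeal.ResidueField)) [q.IsPrime],
        I'.map (θ p) ≤ q → (c : ℕ∞) ≤ q.height := by
    rintro _ rfl q _ hIq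
    let L := MvPolynomial (Fin N) (Q.comap (algebraMap R D)).ResidueField ⧸ q
    let ν : MvPolynomial (Fin N) R →+* L := (Ideal.Quotient.mk q).comp (θ ⟨Q.comap (algebraMap R D), inferInstance⟩)
    have hν : ∀ x ∈ RingHom.ker Φ, ν x = 0 := fun x hx =>
      Ideal.Quotient.eq_zero_iff_mem.mpr (hIq (Ideal.mem_map_of_mem _ (hker.le hx)))
    let δ : D →+* L := RingHom.liftOfSurjective Φ.toRingHom hΦ ⟨ν, hν⟩
    have hδ : ∀ x, δ (Φ x) = ν x := fun x => RingHom.liftOfRightInverse_comp_apply Φ.toRingHom _ _ ⟨ν, hν⟩ x
    have hdim := H L δ (fun r => by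
      rw [show algebraMap R D r = Φ (C r) from (Φ.commutes r).symm, hδ]
      show Ideal.Quotient.mk q (θ _ (C r)) = _
      rw [θ, map_C]
      rfl) (eq_top_iff.mpr fun x hx => by
        clear hx
        obtain ⟨x, rfl⟩ := Ideal.Quotient.mk_surjective x
        induction x using MvPolynomial.induction_on with
        | C a => exact Subalgebra.algebraMap_mem _ a
        | add a b ha hb => rw [map_add]; exact add_mem ha hb
        | mul_X a i ha =>
          rw [map_mul]
          refine mul_mem ha (Algebra.subset_adjoin ⟨Φ (X i), ?_⟩)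
          rw [hδ]
          show Ideal.Quotient.mk q (θ _ (X i)) = _
          rw [θ, map_X])
    obtain ⟨a, b, ha, hb, hab⟩ := Groth.L07.CIField.exists_height_add q
    rw [hb] at hdim
    have : b ≤ n := by exact_mod_cast hdim
    rw [ha]
    exact_mod_cast (show c ≤ a by omega)
  obtain ⟨-, hflat⟩ := Groth.L07.SyntRel.transversal I' F rfl P q' hq' (fun q hq h1 _ => hht _ hp q h1)
  have h1 := hflat c le_rfl
  rw [List.take_of_length_le (by simp)] at h1
  haveI := Groth.L07.SyntRel.flat_quot q' _ h1
  obtain ⟨hs, hk⟩ := localRingHom_surjective Φ.toRingHom hΦ Q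
  let lh : Localization.AtPrime q' →ₐ[R] Localization.AtPrime Q :=
    { Localization.localRingHom q' Q Φ.toRingHom rfl with
      commutes' := fun r => by
        show Localization.localRingHom q' Q Φ.toRingHom rfl (algebraMap R _ r) = _
        rw [IsScalarTower.algebraMap_apply R (MvPolynomial (Fin N) R) (Localization.AtPrime q'),
          Localization.localRingHom_to_map, IsScalarTower.algebraMap_apply R D (Localization.AtPrime Q)]
        exact congrArg _ (Φ.commutes r) }
  have hk' : RingHom.ker lh =
      Ideal.ofList ((List.ofFn F).map (algebraMap _ (Localization.AtPrime q'))) := by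
    rw [← Ideal.map_ofList, Groth.L07.QReg.ofList_ofFn, ← hker]
    exact hk
  exact Module.Flat.of_linearEquiv
    ((Ideal.quotientEquivAlgOfEq R hk'.symm).trans (Ideal.quotientKerAlgEquivOfSurjective (f := lh) hs)).symm.toLinearEquiv

/-- A retract of a flat local ring is flat. -/
theorem flat_of_retract {R C D : Type u} [CommRing R] [CommRing C] [CommRing D] [Algebra R C] [Algebra R D]
    (i : C →ₐ[R] D) (γ : D →ₐ[R] C) (hγi : ∀ c, γ (i c) = c) (q : Ideal C) [q.IsPrime]
    (h : Module.Flat R (Localization.AtPrime (q.comap γ.toRingHom))) :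
    Module.Flat R (Localization.AtPrime q) := by
  let Q := q.comap γ.toRingHom
  have hQ : q = Q.comap i.toRingHom := by
    ext c
    show c ∈ q ↔ γ (i c) ∈ q
    rw [hγi]
  let a : Localization.AtPrime q →ₐ[R] Localization.AtPrime Q :=
    { Localization.localRingHom q Q i.toRingHom hQ with
      commutes' := fun r => by
        show Localization.localRingHom q Q i.toRingHom hQ (algebraMap R _ r) = _
        rw [IsScalarTower.algebraMap_apply R C (Localization.AtPrime q),
          Localization.localRingHom_to_map, IsScalarTower.algebraMap_apply R D (Localization.AtPrime Q)]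
        exact congrArg _ (i.commutes r) }
  let b : Localization.AtPrime Q →ₐ[R] Localization.AtPrime q :=
    { Localization.localRingHom Q q γ.toRingHom rfl with
      commutes' := fun r => by
        show Localization.localRingHom Q q γ.toRingHom rfl (algebraMap R _ r) = _
        rw [IsScalarTower.algebraMap_apply R D (Localization.AtPrime Q),
          Localization.localRingHom_to_map, IsScalarTower.algebraMap_apply R C (Localization.AtPrime q)]
        exact congrArg _ (γ.commutes r) }
  refine Module.Flat.of_retract (f := h) a.toLinearMap b.toLinearMap ?_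
  have : b.toRingHom.comp a.toRingHom = RingHom.id _ := IsLocalization.ringHom_ext q.primeCompl (RingHom.ext fun c => by
    show Localization.localRingHom Q q γ.toRingHom rfl (Localization.localRingHom q Q i.toRingHom hQ (algebraMap C _ c)) = algebraMap C _ c
    rw [Localization.localRingHom_to_map, Localization.localRingHom_to_map]
    exact congrArg _ (hγi c))
  exact LinearMap.ext fun x => RingHom.congr_fun this x

end Groth.L14.SyntLift
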