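import Groth.Agent.L14.SyntLift.Main

/-! # Syntomic algebras lift along surjections: the construction -/

namespace Groth.L14.SyntLift

open MvPolynomial PrimeSpectrum
open Groth.L07.CILocus Groth.L07.SyntAlg

set_option linter.style.haveILetI false
set_option maxSynthPendingDepth 3

universe u

/-- Syntomic algebras lift along surjections. -/
theorem exists_syntomic_lift {R A₀ : Type u} [CommRing R] (I : Ideal R) [CommRing A₀] [Algebra R A₀]
    [Algebra (R ⧸ I) A₀] [IsScalarTower R (R ⧸ I) A₀] (hs : Synt.IsSyntomic (R ⧸ I) A₀) :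
    ∃ (A : Type u) (_ : CommRing A) (_ : Algebra R A) (θA : A →ₐ[R] A₀), Synt.IsSyntomic R A ∧
      Function.Surjective θA ∧ RingHom.ker θA = I.map (algebraMap R A) := by
  classical
  obtain ⟨n, m, π₀, f, e, T, _, _, _, _, σ, E, G, hT, hπ₀, hf, he, hσ, hE, hσE, hEG, hker⟩ :=
    exists_split_nbhd I hs
  haveI := hT
  haveI := hs.2.1
  haveI : Algebra.FinitePresentation R T :=
    Algebra.FinitePresentation.trans R (MvPolynomial (Fin n) R) T
  let JG := Ideal.span (Set.range G)
  let C := T ⧸ JG
  haveI : Algebra.FinitePresentation R C :=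
    Algebra.FinitePresentation.quotient (Submodule.fg_span (Set.finite_range G))
  let mkC : T →ₐ[R] C := Ideal.Quotient.mkₐ R JG
  let θC : C →ₐ[R] A₀ := Ideal.Quotient.liftₐ JG σ fun x hx =>
    RingHom.mem_ker.mp (hker.ge (Ideal.mem_sup_right hx))
  have hθC : Function.Surjective θC := fun a => by
    obtain ⟨x, rfl⟩ := hσ a
    exact ⟨mkC x, rfl⟩
  have hθk : RingHom.ker θC = I.map (algebraMap R C) := by
    refine le_antisymm (fun x hx => ?_) (Ideal.map_le_iff_le_comap.mpr fun i hi => ?_)
    · obtain ⟨t, rfl⟩ := Ideal.Quotient.mk_surjective x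
      have ht : t ∈ I.map (algebraMap R T) ⊔ JG := hker.le hx
      obtain ⟨a, ha, b, hb, rfl⟩ := Submodule.mem_sup.mp ht
      rw [map_add, (Ideal.Quotient.eq_zero_iff_mem (I := JG)).mpr hb, add_zero]
      have := Ideal.mem_map_of_mem (Ideal.Quotient.mk JG) ha
      rwa [Ideal.map_map] at this
    · show θC (algebraMap R C i) = 0
      rw [θC.commutes, IsScalarTower.algebraMap_apply R (R ⧸ I) A₀, Ideal.Quotient.algebraMap_eq,
        Ideal.Quotient.eq_zero_iff_mem.mpr hi, map_zero]
  -- the auxiliary cone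
  let F₁ : Matrix (Fin m) (Fin m) T := 1 - E
  let r : Fin m → MvPolynomial (Fin m) T := fun s =>
    MvPolynomial.C (G s) + ∑ t, MvPolynomial.C (F₁ s t) * X t
  obtain ⟨N, c, Φ, F, hN, hΦ, hΦk⟩ := exists_presentation (R := R) (n := n) r
  let JD := Ideal.span (Set.range r)
  let D := MvPolynomial (Fin m) T ⧸ JD
  let tD : T →+* D := (Ideal.Quotient.mk JD).comp MvPolynomial.C
  let zD : Fin m → D := fun t => Ideal.Quotient.mk JD (X t)
  have hr0 : ∀ s, tD (G s) + ∑ t, tD (F₁ s t) * zD t = 0 := fun s => by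
    have : Ideal.Quotient.mk JD (r s) = 0 := Ideal.Quotient.eq_zero_iff_mem.mpr (Ideal.subset_span ⟨s, rfl⟩)
    simpa [r, tD, zD, map_sum] using this
  have hF₁G : ∀ u, ∑ s, F₁ u s * G s = 0 := fun u => by
    show (F₁.mulVec G) u = 0
    rw [Matrix.sub_mulVec, Matrix.one_mulVec, hEG, sub_self, Pi.zero_apply]
  have hF₁2 : F₁ * F₁ = F₁ := by
    show (1 - E) * (1 - E) = 1 - E
    rw [sub_mul, one_mul, mul_sub, mul_one, hE, sub_self, sub_zero]
  have hz1 : ∀ u, ∑ t, tD (F₁ u t) * zD t = 0 := fun u => by
    have h0 : ∑ s, tD (F₁ u s) * (tD (G s) + ∑ t, tD (F₁ s t) * zD t) = 0 :=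
      Finset.sum_eq_zero fun s _ => by rw [hr0, mul_zero]
    simp only [mul_add, Finset.sum_add_distrib, Finset.mul_sum, ← mul_assoc, ← map_mul] at h0
    rw [← map_sum, hF₁G, map_zero, zero_add, Finset.sum_comm] at h0
    simp only [← Finset.sum_mul, ← map_sum] at h0
    conv_lhs => enter [2, t]; rw [← hF₁2, Matrix.mul_apply]
    exact h0
  have hG0 : ∀ s, tD (G s) = 0 := fun s => by
    have := hr0 s
    rwa [hz1, add_zero] at this
  let tDa : T →ₐ[R] D := (Ideal.Quotient.mkₐ R JD).comp (IsScalarTower.toAlgHom R T (MvPolynomial (Fin m) T))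
  let iC : C →ₐ[R] D := Ideal.Quotient.liftₐ JG tDa
    fun x hx => by
      have : JG ≤ RingHom.ker tD := Ideal.span_le.mpr (by rintro _ ⟨s, rfl⟩; exact hG0 s)
      exact this hx
  let ev : MvPolynomial (Fin m) T →ₐ[R] C :=
    mkC.comp ((MvPolynomial.aeval (R := T) (fun _ : Fin m => (0 : T))).restrictScalars R)
  let γ : D →ₐ[R] C := Ideal.Quotient.liftₐ JD ev fun x hx => by
    have : JD ≤ RingHom.ker ev := Ideal.span_le.mpr (by
      rintro _ ⟨s, rfl⟩
      show mkC (MvPolynomial.aeval _ (r s)) = 0
      simp only [r, map_add, map_sum, map_mul, aeval_C, aeval_X, mul_zero, Finset.sum_const_zero, add_zero,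
        Algebra.algebraMap_self, RingHom.id_apply]
      exact Ideal.Quotient.eq_zero_iff_mem.mpr (Ideal.subset_span ⟨s, rfl⟩))
    exact this hx
  have hγi : ∀ x, γ (iC x) = x := fun x => by
    obtain ⟨t, rfl⟩ := Ideal.Quotient.mk_surjective x
    show mkC (MvPolynomial.aeval _ (MvPolynomial.C t)) = _
    rw [aeval_C]
    rfl
  have hgood : ∀ P : PrimeSpectrum C, I ≤ P.asIdeal.comap (algebraMap R C) →
      ∃ g ∉ P.asIdeal, Synt.IsSyntomic R (Localization.Away g) := by
    intro P hIP
    have hkP : RingHom.ker θC ≤ P.asIdeal := hθk.trans_le (Ideal.map_le_iff_le_comap.mpr hIP)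
    haveI : (P.asIdeal.map θC.toRingHom).IsPrime := Ideal.map_isPrime_of_surjective hθC hkP
    let P₀ : PrimeSpectrum A₀ := ⟨P.asIdeal.map θC.toRingHom, inferInstance⟩
    have hP₀ : comap θC.toRingHom P₀ = P := PrimeSpectrum.ext (by
      show (P.asIdeal.map θC.toRingHom).comap θC.toRingHom = P.asIdeal
      exact (Ideal.comap_map_of_surjective θC.toRingHom hθC _).trans (sup_eq_left.mpr hkP))
    haveI : Algebra.FiniteType R A₀ := Algebra.FiniteType.of_surjective θC hθC
    have hCI : CIAt R P := by
      rw [← hP₀]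
      refine (ciAt_quotient I θC hθC hθk.le P₀ fun i hi => ?_).mpr ((ciAt_base_surjective
        (R' := R ⧸ I) Ideal.Quotient.mk_surjective P₀).mpr ((isSyntomic_iff.mp hs).2 P₀))
      rw [Ideal.mem_comap, IsScalarTower.algebraMap_apply R (R ⧸ I) A₀, Ideal.Quotient.algebraMap_eq,
        Ideal.Quotient.eq_zero_iff_mem.mpr hi, map_zero]
      exact zero_mem _
    haveI : Module.Flat R (Localization.AtPrime P.asIdeal) := by
      refine flat_of_retract iC γ hγi P.asIdeal
        (flat_of_fibre_dim hN Φ hΦ F hΦk _ fun L _ _ _ δ hδ hgen => ?_)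
      set p := (P.asIdeal.comap γ.toRingHom).comap (algebraMap R D) with hp
      have hIp : I ≤ p := fun i hi => by
        show γ (algebraMap R D i) ∈ P.asIdeal
        rw [γ.commutes]
        exact hIP hi
      let ρ : R ⧸ I →+* p.ResidueField := Ideal.Quotient.lift I (algebraMap R _) fun i hi =>
        Ideal.algebraMap_residueField_eq_zero.mpr (hIp hi)
      have hρ : ∀ x, ρ (Ideal.Quotient.mk I x) = algebraMap R _ x := fun x => Ideal.Quotient.lift_mk _ _ _
      have hδT : ∀ x ∈ RingHom.ker σ, δ (tD x) = 0 := by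
        have : RingHom.ker σ ≤ RingHom.ker (δ.comp tD) := by
          rw [hker]
          refine sup_le (Ideal.map_le_iff_le_comap.mpr fun i hi => ?_) (Ideal.span_le.mpr ?_)
          · show δ (algebraMap R D i) = 0
            rw [hδ, Ideal.algebraMap_residueField_eq_zero.mpr (hIp hi), map_zero]
          · rintro _ ⟨s, rfl⟩
            show δ (tD (G s)) = 0
            rw [hG0, map_zero]
        exact fun x hx => this hx
      let τ : A₀ →+* L := RingHom.liftOfSurjective σ.toRingHom hσ ⟨δ.comp tD, fun x hx => hδT x hx⟩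
      have hτ : ∀ x, τ (σ x) = δ (tD x) := fun x =>
        RingHom.liftOfRightInverse_comp_apply σ.toRingHom _ _ ⟨δ.comp tD, _⟩ x
      refine dim_le_of_conormal hs π₀ hπ₀ f hf e he ρ ?_ τ ?_ (fun t => δ (zD t)) ?_ ?_
      · intro x
        obtain ⟨a, b, hb, rfl⟩ := IsFractionRing.div_surjective (A := R ⧸ p) x
        obtain ⟨a, rfl⟩ := Ideal.Quotient.mk_surjective a
        obtain ⟨b, rfl⟩ := Ideal.Quotient.mk_surjective b
        have hb' : algebraMap R p.ResidueField b ≠ 0 := fun h =>
          nonZeroDivisors.ne_zero hb (Ideal.Quotient.eq_zero_iff_mem.mpr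
            (Ideal.algebraMap_residueField_eq_zero.mp h))
        refine ⟨Ideal.Quotient.mk I a, Ideal.Quotient.mk I b, by rwa [hρ], ?_⟩
        rw [hρ, hρ]
        exact div_mul_cancel₀ _ hb'
      · intro x
        obtain ⟨x, rfl⟩ := Ideal.Quotient.mk_surjective x
        rw [show algebraMap (R ⧸ I) A₀ (Ideal.Quotient.mk I x) = σ (algebraMap R T x) by
          rw [σ.commutes, IsScalarTower.algebraMap_apply R (R ⧸ I) A₀, Ideal.Quotient.algebraMap_eq], hτ, hρ]
        exact (hδ x : δ (algebraMap R D x) = _)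
      · intro s
        have := congrArg δ (hz1 s)
        simp only [F₁, Matrix.sub_apply, map_sub, sub_mul, Finset.sum_sub_distrib, map_sum, map_mul, map_zero,
          sub_eq_zero] at this
        have h1 : ∑ t, δ (tD ((1 : Matrix (Fin m) (Fin m) T) s t)) * δ (zD t) = δ (zD s) := by
          rw [Finset.sum_eq_single s (fun t _ ht => by rw [Matrix.one_apply_ne' ht, map_zero, map_zero, zero_mul])
            (fun h => absurd (Finset.mem_univ s) h), Matrix.one_apply_eq, map_one, map_one, one_mul]
        rw [← h1, this]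
        exact Finset.sum_congr rfl fun t _ => by rw [← hτ, hσE]
      · refine top_le_iff.mp (hgen ▸ Algebra.adjoin_le ?_)
        rintro _ ⟨x, rfl⟩
        obtain ⟨x, rfl⟩ := Ideal.Quotient.mk_surjective x
        induction x using MvPolynomial.induction_on with
        | C t =>
          show δ (tD t) ∈ _
          rw [← hτ]
          obtain ⟨y, hy⟩ := hπ₀ (σ t)
          rw [← hy]
          induction y using MvPolynomial.induction_on generalizing t with
          | C a =>
            obtain ⟨a, rfl⟩ := Ideal.Quotient.mk_surjective a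
            rw [show π₀ (MvPolynomial.C (Ideal.Quotient.mk I a)) = σ (algebraMap R T a) by
              rw [σ.commutes, IsScalarTower.algebraMap_apply R (R ⧸ I) A₀, Ideal.Quotient.algebraMap_eq]
              exact π₀.commutes _, hτ]
            show δ (algebraMap R D a) ∈ _
            rw [hδ]
            exact Subalgebra.algebraMap_mem _ _
          | add a b ha hb =>
            obtain ⟨ta, hta⟩ := hσ (π₀ a)
            obtain ⟨tb, htb⟩ := hσ (π₀ b)
            rw [map_add, map_add]
            exact add_mem (ha ta hta.symm) (hb tb htb.symm)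
          | mul_X a i ha =>
            obtain ⟨ta, hta⟩ := hσ (π₀ a)
            rw [map_mul, map_mul]
            exact mul_mem (ha ta hta.symm) (Algebra.subset_adjoin (Or.inl ⟨i, rfl⟩))
        | add a b ha hb =>
          rw [map_add, map_add]
          exact add_mem ha hb
        | mul_X a i ha =>
          rw [map_mul, map_mul]
          exact mul_mem ha (Algebra.subset_adjoin (Or.inr ⟨i, rfl⟩))
    obtain ⟨g, hg, k, c', F', hF', ⟨e'⟩⟩ := exists_relGCI_nhd' P hCI
    exact ⟨g, hg, isSyntomic_of_algEquiv e'.symm (Groth.L07.SyntRel.isSyntomic_of_isRelGCI hF')⟩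
  -- shrink to the syntomic locus
  let U : Set C := {g | Synt.IsSyntomic R (Localization.Away g)}
  have htop : Ideal.span U ⊔ I.map (algebraMap R C) = ⊤ := by
    by_contra hne
    obtain ⟨M, hM, hle⟩ := Ideal.exists_le_maximal _ hne
    obtain ⟨g, hg, hgs⟩ := hgood ⟨M, hM.isPrime⟩ (Ideal.map_le_iff_le_comap.mp (le_sup_right.trans hle))
    exact hg (hle (Ideal.mem_sup_left (Ideal.subset_span hgs)))
  obtain ⟨d, hd, i, hi, hdi⟩ := Submodule.mem_sup.mp ((Ideal.eq_top_iff_one _).mp htop)
  have hθd : θC d = 1 := by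
    have := congrArg θC hdi
    rw [map_add, RingHom.mem_ker.mp (hθk.ge hi), add_zero, map_one] at this
    exact this
  let A := Localization.Away d
  haveI : Algebra.FinitePresentation C A := IsLocalization.Away.finitePresentation d
  haveI : Algebra.FinitePresentation R A := Algebra.FinitePresentation.trans R C A
  have hloc : ∀ P : PrimeSpectrum A, Module.Flat R (Localization.AtPrime P.asIdeal) ∧ CIAt R P := by
    intro P
    obtain ⟨g, hgU, hgP⟩ : ∃ g ∈ U, g ∉ (comap (algebraMap C A) P).asIdeal := by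
      by_contra h
      push Not at h
      have hdm : d ∈ (comap (algebraMap C A) P).asIdeal := Ideal.span_le.mpr h hd
      exact P.2.ne_top (Ideal.eq_top_of_isUnit_mem _ hdm (IsLocalization.Away.algebraMap_isUnit d))
    let P' := comap (algebraMap C A) P
    obtain ⟨P'', hP''⟩ : ∃ P'' : PrimeSpectrum (Localization.Away g),
        comap (algebraMap C (Localization.Away g)) P'' = P' :=
      (PrimeSpectrum.localization_away_comap_range (Localization.Away g) g).ge hgP
    haveI := hgU.2.1
    obtain ⟨hfl, hci⟩ := isSyntomic_iff.mp hgU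
    haveI := hfl
    have h1 : Module.Flat R (Localization.AtPrime P''.asIdeal) := Module.Flat.trans R (Localization.Away g) _
    refine ⟨(flat_away d P).mpr ?_, (ciAt_away d P).mpr ?_⟩
    · have := (flat_away g P'').mp h1
      have he : P''.asIdeal.comap (algebraMap C (Localization.Away g)) = P.asIdeal.comap (algebraMap C A) :=
        congrArg PrimeSpectrum.asIdeal hP''
      haveI := this
      exact Module.Flat.of_linearEquiv (Localization.localAlgEquiv _ _ (AlgEquiv.refl (R := R) (A₁ := C)) (he.symm.trans (Ideal.comap_id _).symm)).toLinearEquiv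
    · have := (ciAt_away g P'').mp (hci P'')
      rwa [hP''] at this
  let θA : A →ₐ[R] A₀ := IsLocalization.liftAlgHom (M := Submonoid.powers d) (f := θC) (by
    rintro ⟨_, k, rfl⟩
    simp [map_pow, hθd])
  have hθA : ∀ x, θA (algebraMap C A x) = θC x := fun x => IsLocalization.lift_eq _ x
  refine ⟨A, inferInstance, inferInstance, θA, isSyntomic_iff.mpr ⟨?_, fun P => (hloc P).2⟩, fun a => ?_, ?_⟩
  · refine Module.flat_of_isLocalized_maximal (S := A) (M := A) (fun M => Localization.AtPrime M)
      (fun M _ => Algebra.linearMap A _) fun M hM => (hloc ⟨M, hM.isPrime⟩).1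
  · obtain ⟨x, hx⟩ := hθC a
    exact ⟨algebraMap C A x, (hθA x).trans hx⟩
  · rw [IsScalarTower.algebraMap_eq R C A, ← Ideal.map_map, ← hθk]
    refine le_antisymm (fun x hx => ?_) (Ideal.map_le_iff_le_comap.mpr fun x hx => ?_)
    · obtain ⟨x, ⟨_, k, rfl⟩, rfl⟩ := IsLocalization.exists_mk'_eq (Submonoid.powers d) x
      have := congrArg θA (IsLocalization.mk'_spec A x (⟨d ^ k, ⟨k, rfl⟩⟩ : Submonoid.powers d))
      rw [map_mul, RingHom.mem_ker.mp hx, zero_mul, hθA] at this
      exact (IsLocalization.mk'_mem_map_algebraMap_iff (Submonoid.powers d) A _ _ _).mpr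
        ⟨1, one_mem _, by rw [one_mul]; exact this.symm⟩
    · show θA (algebraMap C A x) = 0
      rw [hθA]
      exact hx

end Groth.L14.SyntLift
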