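import Groth.Agent.L14.SyntLift.FibreDim
import Groth.Agent.L14.SyntLift.Flat
import Groth.Agent.L05.SmoothLift.IdemNbhd
import Mathlib.RingTheory.Etale.Basic
import Mathlib.RingTheory.Nakayama

/-! # Syntomic algebras lift along surjections -/

namespace Groth.L14.SyntLift

open MvPolynomial PrimeSpectrum
open Groth.L07.CILocus Groth.L07.SyntAlg

set_option linter.style.haveILetI false
set_option maxSynthPendingDepth 3

universe u

/-- An étale neighbourhood of affine space in which the relations are cut out by a projection. -/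
theorem exists_split_nbhd {R A₀ : Type u} [CommRing R] (I : Ideal R) [CommRing A₀] [Algebra R A₀]
    [Algebra (R ⧸ I) A₀] [IsScalarTower R (R ⧸ I) A₀] (hs : Synt.IsSyntomic (R ⧸ I) A₀) :
    ∃ (n m : ℕ) (π₀ : MvPolynomial (Fin n) (R ⧸ I) →ₐ[R ⧸ I] A₀)
      (f : Fin m → MvPolynomial (Fin n) (R ⧸ I)) (e : Matrix (Fin m) (Fin m) (MvPolynomial (Fin n) (R ⧸ I)))
      (T : Type u) (_ : CommRing T) (_ : Algebra (MvPolynomial (Fin n) R) T) (_ : Algebra R T)
      (_ : IsScalarTower R (MvPolynomial (Fin n) R) T) (σ : T →ₐ[R] A₀)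
      (E : Matrix (Fin m) (Fin m) T) (G : Fin m → T),
      Algebra.Etale (MvPolynomial (Fin n) R) T ∧ Function.Surjective π₀ ∧
      RingHom.ker π₀ = Ideal.span (Set.range f) ∧
      (∀ a : Fin m → MvPolynomial (Fin n) (R ⧸ I), ∑ s, a s * f s ∈ RingHom.ker π₀ ^ 2 →
        ∀ u, ∑ s, a s * e s u ∈ RingHom.ker π₀) ∧
      Function.Surjective σ ∧ E * E = E ∧ (∀ s t, σ (E s t) = π₀ (e s t)) ∧ E.mulVec G = G ∧
      RingHom.ker σ = I.map (algebraMap R T) ⊔ Ideal.span (Set.range G) := by
  classical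
  haveI := hs.2.1
  obtain ⟨n, π₀, hπ₀, sf, hsf⟩ := Algebra.FinitePresentation.out (R := R ⧸ I) (A := A₀)
  obtain ⟨m, f, hf⟩ : ∃ (m : ℕ) (f : Fin m → MvPolynomial (Fin n) (R ⧸ I)),
      RingHom.ker π₀ = Ideal.span (Set.range f) := by
    refine ⟨_, fun i => (sf.equivFin.symm i : MvPolynomial (Fin n) (R ⧸ I)), ?_⟩
    rw [show Set.range (fun i => (sf.equivFin.symm i : MvPolynomial (Fin n) (R ⧸ I))) = ↑sf by
      rw [← Function.comp_def (Subtype.val), sf.equivFin.symm.surjective.range_comp, Subtype.range_coe]]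
    exact hsf.symm
  obtain ⟨e, he1, he2⟩ := exists_conormal_matrix hs π₀ hπ₀ f hf
  let P := MvPolynomial (Fin n) R
  let q : P →+* MvPolynomial (Fin n) (R ⧸ I) := MvPolynomial.map (Ideal.Quotient.mk I)
  have hq : Function.Surjective q := MvPolynomial.map_surjective _ Ideal.Quotient.mk_surjective
  have hqk : RingHom.ker q = I.map (algebraMap R P) := by
    rw [MvPolynomial.ker_map, Ideal.mk_ker]; rfl
  choose F hF using fun s => hq (f s)
  choose e₀ he₀ using fun s t => hq (e s t)
  let π : P →ₐ[R] A₀ :=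
    { π₀.toRingHom.comp q with
      commutes' := fun r => by
        show π₀ (q (C r)) = _
        rw [show q (C r) = C (Ideal.Quotient.mk I r) from map_C _ r,
          IsScalarTower.algebraMap_apply R (R ⧸ I) A₀]
        exact π₀.commutes _ }
  have hπ : Function.Surjective π := hπ₀.comp hq
  have hπk : RingHom.ker π = I.map (algebraMap R P) ⊔ Ideal.span (Set.range F) := by
    have h1 : RingHom.ker π = ((Ideal.span (Set.range F)).map q).comap q := by
      rw [Ideal.map_span, ← Set.range_comp, show q ∘ F = f from funext hF, ← hf]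
      rfl
    rw [h1, Ideal.comap_map_of_surjective _ hq, ← RingHom.ker_eq_comap_bot, hqk, sup_comm]
  have hrel : ∀ s, F s - ∑ t, e₀ s t * F t ∈
      I.map (algebraMap R P) ⊔ Ideal.span (Set.range F) ^ 2 := fun s => by
    rw [← hqk, sup_comm, RingHom.ker_eq_comap_bot, ← Ideal.comap_map_of_surjective _ hq, Ideal.mem_comap,
      Ideal.map_pow, Ideal.map_span, ← Set.range_comp, show q ∘ F = f from funext hF, ← hf]
    simp only [map_sub, map_sum, map_mul, hF, he₀]
    exact he1 s
  have hidem : ∀ s u, (Matrix.of e₀ * Matrix.of e₀ - Matrix.of e₀) s u ∈ RingHom.ker π := by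
    intro s u
    have h0 := he2 (fun t => (if t = s then 1 else 0) - e s t) (by
      simp only [sub_mul, Finset.sum_sub_distrib, ite_mul, one_mul, zero_mul, Finset.sum_ite_eq',
        Finset.mem_univ, if_true]
      exact he1 s) u
    simp only [sub_mul, Finset.sum_sub_distrib, ite_mul, one_mul, zero_mul, Finset.sum_ite_eq',
        Finset.mem_univ, if_true] at h0
    show π₀ (q _) = 0
    rw [Matrix.sub_apply, Matrix.mul_apply, map_sub, map_sum]
    simp only [Matrix.of_apply, map_mul, he₀]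
    rw [RingHom.mem_ker.mp (show ∑ t, e s t * e t u - e s u ∈ RingHom.ker π₀ by simpa using neg_mem h0)]
  obtain ⟨S, _, _, σS, E, _, hσS, hE, hσE⟩ :=
    Groth.L05.SmoothLift.exists_idempotent_nbhd (RingHom.ker π) (Matrix.of e₀) hidem
  letI : Algebra R S := ((algebraMap P S).comp (algebraMap R P)).toAlgebra
  haveI : IsScalarTower R P S := IsScalarTower.of_algebraMap_eq' rfl
  let ι₀ : (P ⧸ RingHom.ker π) →ₐ[R] A₀ := Ideal.Quotient.liftₐ _ π fun x hx => hx
  let σ : S →ₐ[R] A₀ := ι₀.comp (σS.restrictScalars R)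
  have hσp : ∀ p, σ (algebraMap P S p) = π p := fun p => by
    show ι₀ (σS (algebraMap P S p)) = π p
    rw [σS.commutes]
    rfl
  have hσsurj : Function.Surjective σ := fun a => by
    obtain ⟨p, rfl⟩ := hπ a
    exact ⟨_, hσp p⟩
  have hι : Function.Injective ι₀ := fun a b h => by
    obtain ⟨a, rfl⟩ := Ideal.Quotient.mk_surjective a
    obtain ⟨b, rfl⟩ := Ideal.Quotient.mk_surjective b
    exact Ideal.Quotient.eq.mpr (by rw [RingHom.mem_ker, map_sub, sub_eq_zero]; exact h)
  let F' : Fin m → S := fun s => algebraMap P S (F s)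
  let N := Ideal.span (Set.range F')
  have hspanF : (Ideal.span (Set.range F)).map (algebraMap P S) = N := by
    rw [Ideal.map_span, ← Set.range_comp]; rfl
  have hkσ : RingHom.ker σ = I.map (algebraMap R S) ⊔ N := by
    rw [show RingHom.ker σ = RingHom.ker σS from Ideal.ext fun x => map_eq_zero_iff ι₀ hι, hσS, hπk,
      Ideal.map_sup, Ideal.map_map, ← IsScalarTower.algebraMap_eq, hspanF]
  have hσE' : ∀ s t, σ (E s t) = π₀ (e s t) := fun s t => by
    show ι₀ (σS (E s t)) = _
    rw [hσE]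
    show π₀ (q (e₀ s t)) = _
    rw [he₀]
  let G := E.mulVec F'
  have hGN : Ideal.span (Set.range G) ≤ N := Ideal.span_le.mpr (by
    rintro _ ⟨s, rfl⟩
    show ∑ t, E s t * F' t ∈ N
    exact sum_mem (fun t _ => Ideal.mul_mem_left N _ (Ideal.subset_span (Set.mem_range_self t))))
  have hN : N ≤ (I.map (algebraMap R S) ⊔ Ideal.span (Set.range G)) ⊔ RingHom.ker σ • N := by
    refine Ideal.span_le.mpr ?_
    rintro _ ⟨s, rfl⟩
    show F' s ∈ _
    have h1 := Ideal.mem_map_of_mem (algebraMap P S) (hrel s)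
    rw [Ideal.map_sup, Ideal.map_map, ← IsScalarTower.algebraMap_eq, Ideal.map_pow, hspanF, map_sub, map_sum] at h1
    simp only [map_mul] at h1
    have e1 : F' s = (F' s - ∑ t, algebraMap P S (e₀ s t) * F' t) +
        (∑ t, (algebraMap P S (e₀ s t) - E s t) * F' t) + G s := by
      simp only [G, Matrix.mulVec, dotProduct, sub_mul, Finset.sum_sub_distrib]
      ring
    rw [e1]
    refine add_mem (add_mem ?_ (Ideal.mem_sup_right (sum_mem fun t _ => ?_)))
      (Ideal.mem_sup_left (Ideal.mem_sup_right (Ideal.subset_span ⟨s, rfl⟩)))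
    · have h2 : I.map (algebraMap R S) ⊔ N ^ 2 ≤
          (I.map (algebraMap R S) ⊔ Ideal.span (Set.range G)) ⊔ RingHom.ker σ • N := by
        refine sup_le (le_sup_left.trans le_sup_left) (le_trans ?_ le_sup_right)
        rw [pow_two, smul_eq_mul, hkσ]
        exact Ideal.mul_mono_left le_sup_right
      exact h2 h1
    · rw [smul_eq_mul]
      refine Ideal.mul_mem_mul ?_ (Ideal.subset_span ⟨t, rfl⟩)
      rw [RingHom.mem_ker, map_sub, hσp, hσE']
      show π₀ (q (e₀ s t)) - _ = 0
      rw [he₀, sub_self]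
  obtain ⟨d, hd1, hd2⟩ := Submodule.exists_sub_one_mem_and_smul_le_of_fg_of_le_sup (I := RingHom.ker σ)
    (Submodule.fg_span (Set.finite_range F')) le_rfl hN
  let T := Localization.Away d
  have hσd : σ d = 1 := by
    rw [RingHom.mem_ker, map_sub, map_one, sub_eq_zero] at hd1
    exact hd1
  let σT : T →ₐ[R] A₀ := IsLocalization.liftAlgHom (M := Submonoid.powers d) (f := σ) (by
    rintro ⟨_, k, rfl⟩
    simp [map_pow, hσd])
  have hσT : ∀ x, σT (algebraMap S T x) = σ x := fun x => IsLocalization.lift_eq _ x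
  haveI : Algebra.Etale S T := Algebra.Etale.of_isLocalizationAway d
  refine ⟨n, m, π₀, f, e, T, inferInstance, inferInstance, inferInstance, inferInstance, σT,
    E.map (algebraMap S T), fun s => algebraMap S T (G s), Algebra.Etale.comp P S T, hπ₀, hf, he2,
    fun a => ?_, ?_, fun s t => ?_, ?_, ?_⟩
  · obtain ⟨x, hx⟩ := hσsurj a
    exact ⟨algebraMap S T x, (hσT x).trans hx⟩
  · rw [← Matrix.map_mul, hE]
  · rw [Matrix.map_apply, hσT, hσE']
  · ext s
    rw [show (fun s => algebraMap S T (G s)) = algebraMap S T ∘ G from rfl, ← RingHom.map_mulVec]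
    show algebraMap S T ((E.mulVec G) s) = algebraMap S T (G s)
    rw [Matrix.mulVec_mulVec, hE]
  · rw [show (fun s => algebraMap S T (G s)) = algebraMap S T ∘ G from rfl, Set.range_comp, ← Ideal.map_span,
      IsScalarTower.algebraMap_eq R S T, ← Ideal.map_map, ← Ideal.map_sup]
    refine le_antisymm (fun x hx => ?_) (Ideal.map_le_iff_le_comap.mpr fun x hx => ?_)
    · obtain ⟨x, ⟨_, k, rfl⟩, rfl⟩ := IsLocalization.exists_mk'_eq (Submonoid.powers d) x
      have hx' : σ x = 0 := by
        have := congrArg (σT) (IsLocalization.mk'_spec T x (⟨d ^ k, ⟨k, rfl⟩⟩ : Submonoid.powers d))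
        rw [map_mul, RingHom.mem_ker.mp hx, zero_mul, hσT] at this
        exact this.symm
      have hdx : d * x ∈ I.map (algebraMap R S) ⊔ Ideal.span (Set.range G) := by
        have hx2 : x ∈ I.map (algebraMap R S) ⊔ N := hkσ ▸ hx'
        obtain ⟨a, ha, b, hb, rfl⟩ := Submodule.mem_sup.mp hx2
        rw [mul_add]
        exact add_mem (Ideal.mem_sup_left (Ideal.mul_mem_left _ _ ha))
          (hd2 (Submodule.smul_mem_pointwise_smul b d N hb))
      exact (IsLocalization.mk'_mem_map_algebraMap_iff (Submonoid.powers d) T _ _ _).mpr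
        ⟨d, Submonoid.mem_powers d, hdx⟩
    · show σT (algebraMap S T x) = 0
      rw [hσT]
      exact RingHom.mem_ker.mp ((sup_le le_sup_left (hGN.trans le_sup_right) : _ ≤ I.map (algebraMap R S) ⊔ N).trans hkσ.ge hx)

end Groth.L14.SyntLift
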