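import Groth.Agent.L14.SyntLift.Main
import Mathlib.RingTheory.Ideal.KrullsHeightTheorem

/-! # Syntomic algebras are retracts of relative global complete intersections -/

namespace Groth.L14.SyntLift

open MvPolynomial PrimeSpectrum TensorProduct
open Groth.L07.CILocus Groth.L07.SyntAlg

set_option linter.style.haveILetI false
set_option maxSynthPendingDepth 3

universe u

/-- A relative global complete intersection from a bound on the fibre dimensions. -/
theorem isRelGCI_of_dim_le {R D : Type u} [CommRing R] [CommRing D] [Algebra R D] {N c n : ℕ} (hN : N = c + n)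
    (F : Fin c → MvPolynomial (Fin N) R) (e : Synt.RelGCIRing R N c F ≃ₐ[R] D)
    (H : ∀ (p : PrimeSpectrum R) (L : Type u) [CommRing L] [IsDomain L] [Algebra p.asIdeal.ResidueField L]
      (δ : D →+* L), (∀ r, δ (algebraMap R D r) =
        algebraMap p.asIdeal.ResidueField L (algebraMap R _ r)) →
      Algebra.adjoin p.asIdeal.ResidueField (Set.range δ) = ⊤ → ringKrullDim L ≤ (n : WithBot ℕ∞)) :
    Synt.IsRelGCI R N c F := by
  classical
  intro p hnt
  refine ⟨by omega, le_antisymm ?_ ?_⟩
  · rw [show N - c = n by omega]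
    refine Groth.L07.CIField.dim_le_of_primes (RingHom.id _) (fun a b h => h) _ fun P => ?_
    rw [Ideal.comap_id]
    let L := p.asIdeal.Fiber (Synt.RelGCIRing R N c F) ⧸ P.asIdeal
    let δ : D →+* L := ((Ideal.Quotient.mk P.asIdeal).comp
      (Algebra.TensorProduct.includeRight (R := R) (A := p.asIdeal.ResidueField)).toRingHom).comp
      e.symm.toRingEquiv.toRingHom
    refine H p L δ (fun r => ?_) (eq_top_iff.mpr fun x hx => ?_)
    · show Ideal.Quotient.mk P.asIdeal (Algebra.TensorProduct.includeRight (R := R)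
        (A := p.asIdeal.ResidueField) (e.symm (algebraMap R D r))) = _
      rw [e.symm.commutes, AlgHom.commutes,
        IsScalarTower.algebraMap_apply R p.asIdeal.ResidueField (p.asIdeal.Fiber (Synt.RelGCIRing R N c F))]
      rfl
    · clear hx
      obtain ⟨x, rfl⟩ := Ideal.Quotient.mk_surjective x
      induction x using TensorProduct.induction_on with
      | zero => rw [map_zero]; exact zero_mem _
      | add a b ha hb => rw [map_add]; exact add_mem ha hb
      | tmul a b =>
        rw [show a ⊗ₜ[R] b = algebraMap p.asIdeal.ResidueField _ a * ((1 : p.asIdeal.ResidueField) ⊗ₜ[R] b) by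
          simp [Algebra.TensorProduct.algebraMap_apply], map_mul]
        refine mul_mem (Subalgebra.algebraMap_mem _ a) (Algebra.subset_adjoin ⟨e b, ?_⟩)
        show Ideal.Quotient.mk P.asIdeal (Algebra.TensorProduct.includeRight (R := R)
          (A := p.asIdeal.ResidueField) (e.symm (e b))) = _
        rw [AlgEquiv.symm_apply_apply]
        rfl
  · let I' := Ideal.span (Set.range F)
    let J := I'.map (θ p)
    have hJk : RingHom.ker (φ I' p).toRingHom = J := ker_φ I' p
    have hJtop : J ≠ ⊤ := by
      intro h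
      haveI := hnt
      exact RingHom.ker_ne_top (φ I' p).toRingHom (hJk.trans h)
    obtain ⟨q, hq⟩ := Ideal.nonempty_minimalPrimes hJtop
    haveI := hq.1.1
    have hc : q.height ≤ (c : ℕ∞) := by
      refine (Ideal.height_le_spanRank_toENat_of_mem_minimalPrimes J q hq).trans ?_
      have h1 : Submodule.spanRank J ≤ (c : Cardinal) := by
        rw [show J = Submodule.span _ (Set.range (θ p ∘ F)) by
          show I'.map (θ p) = _
          rw [Ideal.map_span, ← Set.range_comp]]
        refine (Submodule.spanRank_span_le_card _).trans ?_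
        rw [Cardinal.mk_fintype]
        exact_mod_cast (Fintype.card_range_le _).trans (Fintype.card_fin c).le
      have := (OrderHomClass.mono Cardinal.toENat) h1
      simpa using this
    obtain ⟨a, b, ha, hb, hab⟩ := Groth.L07.CIField.exists_height_add q
    rw [ha] at hc
    have hc' : a ≤ c := by exact_mod_cast hc
    let g : p.asIdeal.Fiber (Synt.RelGCIRing R N c F) →+* MvPolynomial (Fin N) p.asIdeal.ResidueField ⧸ q :=
      RingHom.liftOfSurjective (φ I' p).toRingHom (φ_surjective I' p) ⟨Ideal.Quotient.mk q, by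
        rw [Ideal.mk_ker, hJk]
        exact hq.1.2⟩
    have hg : Function.Surjective g := fun x => by
      obtain ⟨x, rfl⟩ := Ideal.Quotient.mk_surjective x
      exact ⟨φ I' p x, RingHom.liftOfRightInverse_comp_apply _ _ _ _ x⟩
    refine le_trans ?_ (ringKrullDim_le_of_surjective g hg)
    rw [hb]
    exact_mod_cast (show N - c ≤ b by omega)

set_option maxHeartbeats 800000 in
/-- A syntomic algebra is a smooth retract of a relative global complete intersection. -/
theorem exists_relGCI_retract {R A : Type u} [CommRing R] [CommRing A] [Algebra R A]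
    [Algebra (R ⧸ (⊥ : Ideal R)) A] [IsScalarTower R (R ⧸ (⊥ : Ideal R)) A]
    (hs : Synt.IsSyntomic (R ⧸ (⊥ : Ideal R)) A) :
    ∃ (N c : ℕ) (F : Fin c → MvPolynomial (Fin N) R), Synt.IsRelGCI R N c F ∧
      ∃ (_ : Algebra A (Synt.RelGCIRing R N c F)) (_ : IsScalarTower R A (Synt.RelGCIRing R N c F)),
        Algebra.Smooth A (Synt.RelGCIRing R N c F) ∧
        ∃ ρ : Synt.RelGCIRing R N c F →ₐ[R] A,
          ∀ a : A, ρ (algebraMap A (Synt.RelGCIRing R N c F) a) = a := by
  classical
  obtain ⟨n, m, π₀, f, e, T, _, _, _, _, σ, E, G, hT, hπ₀, hf, he, hσ, hE, hσE, hEG, hker⟩ :=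
    exists_split_nbhd (⊥ : Ideal R) hs
  haveI := hT
  haveI := hs.2.1
  haveI : Algebra.FinitePresentation R T :=
    Algebra.FinitePresentation.trans R (MvPolynomial (Fin n) R) T
  rw [Ideal.map_bot, bot_sup_eq] at hker
  let F₁ : Matrix (Fin m) (Fin m) T := 1 - E
  let r : Fin m → MvPolynomial (Fin m) T := fun s =>
    MvPolynomial.C (G s) + ∑ t, MvPolynomial.C (F₁ s t) * X t
  obtain ⟨N, c, Φ, F, hN, hΦ, hΦk⟩ := exists_presentation (R := R) (n := n) r
  let JD := Ideal.span (Set.range r)
  let D := MvPolynomial (Fin m) T ⧸ JD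
  let eD : Synt.RelGCIRing R N c F ≃ₐ[R] D :=
    (Ideal.quotientEquivAlgOfEq R hΦk.symm).trans (Ideal.quotientKerAlgEquivOfSurjective hΦ)
  let tD : T →+* D := (Ideal.Quotient.mk JD).comp MvPolynomial.C
  let tDa : T →ₐ[R] D := (Ideal.Quotient.mkₐ R JD).comp (IsScalarTower.toAlgHom R T (MvPolynomial (Fin m) T))
  let zD : Fin m → D := fun t => Ideal.Quotient.mk JD (X t)
  have hr0 : ∀ s, tD (G s) + ∑ t, tD (F₁ s t) * zD t = 0 := fun s => by
    have : Ideal.Quotient.mk JD (r s) = 0 := Ideal.Quotient.eq_zero_iff_mem.mpr (Ideal.subset_span ⟨s, rfl⟩)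
    simpa [r, tD, zD, map_sum] using this
  have hF₁G : ∀ u, ∑ s, F₁ u s * G s = 0 := fun u => by
    show (F₁.mulVec G) u = 0
    rw [Matrix.sub_mulVec, Matrix.one_mulVec, hEG, sub_self, Pi.zero_apply]
  have hF₁2 : F₁ * F₁ = F₁ := by
    show (1 - E) * (1 - E) = 1 - E
    rw [sub_mul, one_mul, mul_sub, mul_one, hE, sub_self, sub_zero]
  have hz1 : ∀ u, ∑ t, tD (F₁ u t) * zD t = 0 := fun u => by
    have h0 : ∑ s, tD (F₁ u s) * (tD (G s) + ∑ t, tD (F₁ s t) * zD t) = 0 :=
      Finset.sum_eq_zero fun s _ => by rw [hr0, mul_zero]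
    simp only [mul_add, Finset.sum_add_distrib, Finset.mul_sum, ← mul_assoc, ← map_mul] at h0
    rw [← map_sum, hF₁G, map_zero, zero_add, Finset.sum_comm] at h0
    simp only [← Finset.sum_mul, ← map_sum] at h0
    conv_lhs => enter [2, t]; rw [← hF₁2, Matrix.mul_apply]
    exact h0
  have hG0 : ∀ s, tD (G s) = 0 := fun s => by
    have := hr0 s
    rwa [hz1, add_zero] at this
  have hkT : ∀ x ∈ RingHom.ker σ, tD x = 0 := by
    have : RingHom.ker σ ≤ RingHom.ker tD := by
      rw [hker, Ideal.span_le]
      rintro _ ⟨s, rfl⟩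
      exact hG0 s
    exact fun x hx => this hx
  let ι : A →ₐ[R] D := (Ideal.Quotient.liftₐ (RingHom.ker σ) tDa hkT).comp
    (Ideal.quotientKerAlgEquivOfSurjective hσ).symm.toAlgHom
  have hι : ∀ x, ι (σ x) = tD x := fun x => by
    have e1 : (Ideal.quotientKerAlgEquivOfSurjective hσ).symm (σ x) = Ideal.Quotient.mk _ x :=
      (AlgEquiv.symm_apply_eq _).mpr rfl
    simp only [ι, AlgHom.comp_apply, AlgEquiv.coe_toAlgHom]
    rw [e1]
    rfl
  let ev : MvPolynomial (Fin m) T →ₐ[R] A :=
    σ.comp ((MvPolynomial.aeval (R := T) (fun _ : Fin m => (0 : T))).restrictScalars R)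
  let γ : D →ₐ[R] A := Ideal.Quotient.liftₐ JD ev fun x hx => by
    have : JD ≤ RingHom.ker ev := Ideal.span_le.mpr (by
      rintro _ ⟨s, rfl⟩
      show σ (MvPolynomial.aeval _ (r s)) = 0
      simp only [r, map_add, map_sum, map_mul, aeval_C, aeval_X, mul_zero, Finset.sum_const_zero, add_zero,
        Algebra.algebraMap_self, RingHom.id_apply]
      exact hker.ge (Ideal.subset_span ⟨s, rfl⟩))
    exact this hx
  have hγι : ∀ a, γ (ι a) = a := fun a => by
    obtain ⟨t, rfl⟩ := hσ a
    rw [hι]
    show σ (MvPolynomial.aeval _ (MvPolynomial.C t)) = _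
    rw [aeval_C]
    rfl
  have hgci : Synt.IsRelGCI R N c F := by
    refine isRelGCI_of_dim_le hN F eD fun p L _ _ _ δ hδ hgen => ?_
    let ρ : R ⧸ (⊥ : Ideal R) →+* p.asIdeal.ResidueField := Ideal.Quotient.lift ⊥ (algebraMap R _) fun i hi => by
      rw [Ideal.mem_bot.mp hi, map_zero]
    have hρ : ∀ x, ρ (Ideal.Quotient.mk ⊥ x) = algebraMap R _ x := fun x => Ideal.Quotient.lift_mk _ _ _
    let τ : A →+* L := δ.comp ι.toRingHom
    refine dim_le_of_conormal hs π₀ hπ₀ f hf e he ρ ?_ τ ?_ (fun t => δ (zD t)) ?_ ?_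
    · intro x
      obtain ⟨a, b, hb, rfl⟩ := IsFractionRing.div_surjective (A := R ⧸ p.asIdeal) x
      obtain ⟨a, rfl⟩ := Ideal.Quotient.mk_surjective a
      obtain ⟨b, rfl⟩ := Ideal.Quotient.mk_surjective b
      have hb' : algebraMap R p.asIdeal.ResidueField b ≠ 0 := fun h =>
        nonZeroDivisors.ne_zero hb (Ideal.Quotient.eq_zero_iff_mem.mpr
          (Ideal.algebraMap_residueField_eq_zero.mp h))
      refine ⟨Ideal.Quotient.mk ⊥ a, Ideal.Quotient.mk ⊥ b, by rwa [hρ], ?_⟩
      rw [hρ, hρ]
      exact div_mul_cancel₀ _ hb'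
    · intro x
      obtain ⟨x, rfl⟩ := Ideal.Quotient.mk_surjective x
      rw [← Ideal.Quotient.algebraMap_eq, ← IsScalarTower.algebraMap_apply, Ideal.Quotient.algebraMap_eq, hρ]
      show δ (ι (algebraMap R A x)) = _
      rw [ι.commutes]
      exact hδ x
    · intro s
      have := congrArg δ (hz1 s)
      simp only [F₁, Matrix.sub_apply, map_sub, sub_mul, Finset.sum_sub_distrib, map_sum, map_mul, map_zero,
        sub_eq_zero] at this
      have h1 : ∑ t, δ (tD ((1 : Matrix (Fin m) (Fin m) T) s t)) * δ (zD t) = δ (zD s) := by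
        rw [Finset.sum_eq_single s (fun t _ ht => by rw [Matrix.one_apply_ne' ht, map_zero, map_zero, zero_mul])
          (fun h => absurd (Finset.mem_univ s) h), Matrix.one_apply_eq, map_one, map_one, one_mul]
      rw [← h1, this]
      exact Finset.sum_congr rfl fun t _ => by rw [← hι, hσE]; rfl
    · refine top_le_iff.mp (hgen ▸ Algebra.adjoin_le ?_)
      rintro _ ⟨x, rfl⟩
      obtain ⟨x, rfl⟩ := Ideal.Quotient.mk_surjective x
      induction x using MvPolynomial.induction_on with
      | C t =>
        show δ (tD t) ∈ _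
        rw [← hι]
        obtain ⟨y, hy⟩ := hπ₀ (σ t)
        rw [← hy]
        clear hy t
        induction y using MvPolynomial.induction_on with
        | C a =>
          obtain ⟨a, rfl⟩ := Ideal.Quotient.mk_surjective a
          rw [show π₀ (MvPolynomial.C (Ideal.Quotient.mk ⊥ a)) = algebraMap R A a from
            (π₀.commutes _).trans (IsScalarTower.algebraMap_apply R (R ⧸ (⊥ : Ideal R)) A a).symm, ι.commutes, hδ]
          exact Subalgebra.algebraMap_mem _ _
        | add a b ha hb => rw [map_add, map_add, map_add]; exact add_mem ha hb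
        | mul_X a i ha =>
          rw [map_mul, map_mul, map_mul]
          exact mul_mem ha (Algebra.subset_adjoin (Or.inl ⟨i, rfl⟩))
      | add a b ha hb =>
        rw [map_add, map_add]
        exact add_mem ha hb
      | mul_X a i ha =>
        rw [map_mul, map_mul]
        exact mul_mem ha (Algebra.subset_adjoin (Or.inr ⟨i, rfl⟩))
  let K := Synt.RelGCIRing R N c F
  letI : Algebra A K := (eD.symm.toAlgHom.comp ι).toRingHom.toAlgebra
  haveI hTow : IsScalarTower R A K :=
    IsScalarTower.of_algebraMap_eq fun x => ((eD.symm.toAlgHom.comp ι).commutes x).symm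
  refine ⟨N, c, F, hgci, inferInstance, hTow, ?_, γ.comp eD.toAlgHom, fun a => ?_⟩
  · letI : Algebra A D := ι.toRingHom.toAlgebra
    haveI : IsScalarTower R A D := IsScalarTower.of_algebraMap_eq fun x => (ι.commutes x).symm
    haveI : Algebra.FinitePresentation R D := Algebra.FinitePresentation.of_surjective hΦ
      (by
        show (RingHom.ker Φ).FG
        rw [hΦk]
        exact Submodule.fg_span (Set.finite_range F))
    haveI : Algebra.FiniteType R A := Algebra.FiniteType.of_surjective σ hσ
    haveI : Algebra.FinitePresentation A D := .of_restrict_scalars_finitePresentation R A D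
    haveI : Algebra.FormallySmooth A D := by
      refine Algebra.FormallySmooth.of_comp_surjective fun B _ _ J hJ g => ?_
      let π' : MvPolynomial (Fin m) A →ₐ[A] D := aeval zD
      choose b hb using fun i => Ideal.Quotient.mk_surjective (g (zD i))
      let lift₀ : MvPolynomial (Fin m) A →ₐ[A] B := aeval b
      let κ : MvPolynomial (Fin m) T →+* MvPolynomial (Fin m) A :=
        eval₂Hom (MvPolynomial.C.comp σ.toRingHom) fun s => ∑ t, MvPolynomial.C (σ (E s t)) * X t
      let i' : D →+* MvPolynomial (Fin m) A := Ideal.Quotient.lift JD κ fun x hx => by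
        have : JD ≤ RingHom.ker κ := Ideal.span_le.mpr (by
          rintro _ ⟨s, rfl⟩
          show κ (r s) = 0
          simp only [r, map_add, map_sum, map_mul, κ, eval₂Hom_C, eval₂Hom_X', RingHom.comp_apply]
          show MvPolynomial.C (σ (G s)) + _ = _
          rw [RingHom.mem_ker.mp (hker.ge (Ideal.subset_span ⟨s, rfl⟩)), map_zero, zero_add]
          simp only [Finset.mul_sum, ← mul_assoc, ← map_mul]
          rw [Finset.sum_comm]
          refine Finset.sum_eq_zero fun u _ => ?_
          rw [← Finset.sum_mul, ← map_sum]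
          have h1 : ∑ t, σ (F₁ s t) * σ (E t u) = σ ((F₁ * E) s u) := by
            simp only [Matrix.mul_apply, map_sum, map_mul]
          have h2 : F₁ * E = 0 := by
            show (1 - E) * E = 0
            rw [sub_mul, one_mul, hE, sub_self]
          show MvPolynomial.C (∑ t, σ (F₁ s t) * σ (E t u)) * X u = 0
          rw [h1, h2, Matrix.zero_apply, map_zero, map_zero, zero_mul])
        exact this hx
      have hi' : ∀ a : A, i' (algebraMap A D a) = algebraMap A (MvPolynomial (Fin m) A) a := fun a => by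
        obtain ⟨t, rfl⟩ := hσ a
        show i' (ι (σ t)) = MvPolynomial.C (σ t)
        rw [hι]
        exact eval₂Hom_C _ _ _
      let iA : D →ₐ[A] MvPolynomial (Fin m) A := AlgHom.mk i' hi'
      have hsec : π'.comp iA = AlgHom.id A D := by
        refine AlgHom.ext fun x => ?_
        obtain ⟨x, rfl⟩ := Ideal.Quotient.mk_surjective x
        show π' (κ x) = Ideal.Quotient.mk JD x
        induction x using MvPolynomial.induction_on with
        | C t =>
          rw [show κ (MvPolynomial.C t) = MvPolynomial.C (σ t) from eval₂Hom_C _ _ _, aeval_C]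
          exact hι t
        | add a b ha hb => rw [map_add, map_add, ha, hb, map_add]
        | mul_X a s ha =>
          rw [map_mul, map_mul, ha, map_mul]
          congr 1
          rw [show κ (X s) = ∑ t, MvPolynomial.C (σ (E s t)) * X t from eval₂Hom_X' _ _ _, map_sum]
          simp only [map_mul, π', aeval_C, aeval_X]
          show ∑ t, ι (σ (E s t)) * zD t = zD s
          simp only [hι]
          have h1 : ∀ t, E s t = (1 : Matrix (Fin m) (Fin m) T) s t - F₁ s t := fun t => by
            simp [F₁]
          simp only [h1, map_sub, sub_mul, Finset.sum_sub_distrib, hz1, sub_zero]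
          rw [Finset.sum_eq_single s (fun t _ ht => by rw [Matrix.one_apply_ne' ht, map_zero, zero_mul])
            (fun h => absurd (Finset.mem_univ s) h), Matrix.one_apply_eq, map_one, one_mul]
      have hl : (Ideal.Quotient.mkₐ A J).comp lift₀ = g.comp π' :=
        MvPolynomial.algHom_ext fun i => by simp [lift₀, π', hb]
      refine ⟨lift₀.comp iA, ?_⟩
      rw [← AlgHom.comp_assoc, hl, AlgHom.comp_assoc, hsec, AlgHom.comp_id]
    haveI : Algebra.Smooth A D := ⟨inferInstance, inferInstance⟩
    exact Algebra.Smooth.of_equiv (AlgEquiv.ofRingEquiv (f := eD.symm.toRingEquiv) fun a => rfl)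
  · show γ (eD (eD.symm (ι a))) = a
    rw [AlgEquiv.apply_symm_apply, hγι]

end Groth.L14.SyntLift
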